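import Mathlib
import Cfsg.Agent.StdO8.Gen_m3
import Cfsg.Agent.H732.SelfCentO
import Cfsg.Agent.H329.O8Facts
import Cfsg.Agent.Lib.MinNormal
import Cfsg.Agent.Lib.SubnormalJoin
import Cfsg.Agent.FastGrp
import Cfsg.Agent.Prune
set_option linter.all false

section
prune_inst 0x7ffffffbbbf8fffeffff7e7ff7f5cffdf9fabfffe6dff9fbffedfbff3bffeb7fcbe5fbafefecf0ff8ef6e23e18f87b53fbffdeffe36bdc7ffffd5ff45ffbffdfffffbd3d71f7bd3edffd6ffffbf077ae7f3fffffffffffffffffffffffffffffffbfffffffff

-- part: H320/O8/Facts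
section
prune_inst 0x44002000100000000000a00000201000000000000000004000000000000100000000301003000100002040080040020000094000000000008000400000000400000080280000200000000800000000000000000000000000000000000000000000000
set_option linter.all false
open scoped Cfsg.Agent.FastGrp

-- part: H320/O8/Count
section
/-!
# Counting fixed points (helper320)
-/

set_option autoImplicit false

namespace Cfsg.Agent.H320.O8

/-- fixed points of a permutation of prime order -/
theorem fix_mod {α : Type*} [Finite α] {p : ℕ} (hp : p.Prime) (f : Equiv.Perm α) (hf : f ^ p = 1) :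
    Nat.card α ≡ Nat.card {a : α // f a = a} [MOD p] := by
  classical
  have := Fact.mk hp
  let _ : Fintype α := Fintype.ofFinite α
  let F : Function.End α := fun a => f a
  have h2 : ∀ (n : ℕ) (a : α), (F ^ n : Function.End α) a = (f ^ n) a := by
    intro n
    induction n with
    | zero => intro a; rfl
    | succ n ih =>
      intro a
      rw [pow_succ, pow_succ]
      exact ih (f a)
  have h := Equiv.Perm.card_fixedPoints_modEq (α := α) (f := F) (p := p) (n := 1) (by
    rw [pow_one]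
    funext a
    rw [h2, hf]
    rfl)
  rw [Nat.card_eq_fintype_card, Nat.card_eq_fintype_card]
  convert h using 1
  exact Fintype.card_congr (Equiv.refl _)

/-- a permutation of order dividing nine whose cube has no fixed points -/
theorem nine_dvd {α : Type*} [Finite α] (f : Equiv.Perm α) (h9 : f ^ 9 = 1) (hf : ∀ a, (f ^ 3) a ≠ a) :
    9 ∣ Nat.card α := by
  classical
  let _ : Fintype α := Fintype.ofFinite α
  by_cases hα : Nonempty α
  · have h3 : f ^ 3 ≠ 1 := by
      intro h
      obtain ⟨a⟩ := hα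
      exact hf a (by rw [h]; rfl)
    have ho : orderOf f = 9 := by
      have h1 : orderOf f ∣ 3 ^ 2 := orderOf_dvd_of_pow_eq_one (by norm_num; exact h9)
      obtain ⟨k, hk, hk2⟩ := (Nat.dvd_prime_pow Nat.prime_three).1 h1
      have h2 : ¬ k ≤ 1 := fun h => h3 (orderOf_dvd_iff_pow_eq_one.1 (by rw [hk2]; exact pow_dvd_pow 3 h))
      have : k = 2 := by omega
      rw [hk2, this]; norm_num
    have hfix : ∀ g : Subgroup.zpowers f, g ≠ 1 → IsEmpty (MulAction.fixedBy α g) := by
      rintro ⟨g, hg⟩ hg1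
      refine ⟨fun ⟨a, ha⟩ => ?_⟩
      have ha' : g a = a := ha
      obtain ⟨n, rfl⟩ := Subgroup.mem_zpowers_iff.1 hg
      -- the subgroup generated by `f ^ n` contains `f ^ 3`
      have hn : ¬ (9 : ℤ) ∣ n := by
        intro h
        apply hg1
        apply Subtype.ext
        show f ^ n = 1
        rw [← orderOf_dvd_iff_zpow_eq_one, ho]
        exact_mod_cast h
      obtain ⟨m, hm⟩ : ∃ m : ℤ, n * m ≡ 3 [ZMOD 9] := by
        have h9' : n % 9 = 0 ∨ n % 9 = 1 ∨ n % 9 = 2 ∨ n % 9 = 3 ∨ n % 9 = 4 ∨ n % 9 = 5 ∨ n % 9 = 6 ∨ n % 9 = 7 ∨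
          n % 9 = 8 := by (clear * -; solve | lia | omega)
        rcases h9' with h | h | h | h | h | h | h | h | h
        · exact absurd (Int.dvd_of_emod_eq_zero h) hn
        · exact ⟨3, by rw [Int.ModEq]; omega⟩
        · exact ⟨6, by rw [Int.ModEq]; omega⟩
        · exact ⟨1, by rw [Int.ModEq]; omega⟩
        · exact ⟨3, by rw [Int.ModEq]; omega⟩
        · exact ⟨6, by rw [Int.ModEq]; omega⟩
        · exact ⟨2, by rw [Int.ModEq]; omega⟩
        · exact ⟨3, by rw [Int.ModEq]; omega⟩
        · exact ⟨6, by rw [Int.ModEq]; omega⟩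
      have h5 : f ^ (n * m) = f ^ (3 : ℤ) := by
        rw [zpow_eq_zpow_iff_modEq, ho]
        exact_mod_cast hm
      have h6 : ((f ^ n) ^ m) a = a := by
        have : ∀ k : ℕ, ((f ^ n) ^ k) a = a := by
          intro k
          induction k with
          | zero => rfl
          | succ k ih => rw [pow_succ, Equiv.Perm.mul_apply, ha', ih]
        rcases m with m | m
        · exact this m
        · rw [zpow_negSucc, Equiv.Perm.inv_eq_iff_eq]
          exact (this (m + 1)).symm
      rw [← zpow_mul, h5] at h6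
      exact hf a h6
    have h1 := MulAction.sum_card_fixedBy_eq_card_orbits_mul_card_group (Subgroup.zpowers f) α
    rw [Finset.sum_eq_single (1 : Subgroup.zpowers f)] at h1
    · have h2 : Fintype.card (MulAction.fixedBy α (1 : Subgroup.zpowers f)) = Fintype.card α := by
        refine Fintype.card_congr ⟨fun x => x.1, fun x => ⟨x, one_smul _ x⟩, fun _ => rfl, fun _ => rfl⟩
      rw [h2] at h1
      rw [Nat.card_eq_fintype_card, h1]
      have h3 : Fintype.card (Subgroup.zpowers f) = 9 := by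
        rw [← Nat.card_eq_fintype_card, Nat.card_zpowers, ho]
      rw [h3]
      exact Dvd.intro_left _ rfl
    · intro b _ hb
      have := hfix b hb
      exact Fintype.card_eq_zero
    · intro h
      exact absurd (Finset.mem_univ _) h
  · have : IsEmpty α := not_nonempty_iff.1 hα
    rw [Nat.card_of_isEmpty]
    exact dvd_zero _

end Cfsg.Agent.H320.O8
end

-- part: H320/O8/Geo
section
/-!
# Elements of order nine of `Ω₈⁺(2)` (helper320)
-/

set_option autoImplicit false

namespace Cfsg.Agent.H320.O8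

open Cfsg.Agent.StdO8.Model Cfsg.Agent.StdO8.Code

abbrev LV : Type := V ≃ₗ[ZMod 2] V

theorem card_V : Nat.card V = 256 := by
  rw [Nat.card_eq_fintype_card]
  simp [ZMod.card]

/-- decoding as an equivalence -/
noncomputable def decE : Fin 256 ≃ V :=
  Equiv.ofBijective (fun a => dec a.1)
    ⟨fun a b h => Fin.ext (dec_inj a.2 b.2 h), fun v => by
      obtain ⟨a, ha, hv⟩ := dec_surj v
      exact ⟨⟨a, ha⟩, hv⟩⟩

theorem cc_eq_zero_iff (b : Bool) : cc b = 0 ↔ b = false := by cases b <;> simp only [cc, _root_.Bool.false_eq_true, ↓ _root_.reduceIte, _root_.one_ne_zero, _root_.Bool.true_eq_false]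

theorem card_sing : Nat.card {v : V // q v = 0} = 136 := by
  have e : {a : Fin 256 // qn a.1 = false} ≃ {v : V // q v = 0} := by
    refine Equiv.subtypeEquiv decE fun a => ?_
    show _ ↔ q (dec a.1) = 0
    rw [q_dec, cc_eq_zero_iff]
  rw [← Nat.card_congr e, Nat.card_eq_fintype_card]
  decide +kernel

/-- the permutation of an invariant subset -/
def sp (g : LV) (P : V → Prop) (h : ∀ v, P (g v) ↔ P v) : Equiv.Perm {v : V // P v} :=
  Equiv.Perm.subtypePerm g.toEquiv h

theorem sp_pow (g : LV) (P : V → Prop) (h : ∀ v, P (g v) ↔ P v) (n : ℕ) (x : {v : V // P v}) :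
    ((((sp g P h) ^ n : Equiv.Perm _) x : {v : V // P v}) : V) = (g ^ n) x := by
  induction n generalizing x with
  | zero => rfl
  | succ n ih =>
    rw [pow_succ, pow_succ]
    exact ih (sp g P h x)

theorem sp_pow_eq_one {g : LV} {P : V → Prop} {h : ∀ v, P (g v) ↔ P v} {n : ℕ} (hn : g ^ n = 1) :
    (sp g P h) ^ n = 1 := by
  ext x
  rw [sp_pow, hn]
  rfl

/-- fixed vectors -/
def fxS (g : LV) : Submodule (ZMod 2) V where
  carrier := {v | g v = v}
  add_mem' := fun {a b} ha hb => by
    show g (a + b) = a + b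
    rw [map_add, show g a = a from ha, show g b = b from hb]
  zero_mem' := map_zero g
  smul_mem' := fun c {a} ha => by
    show g (c • a) = c • a
    rw [map_smul, show g a = a from ha]

theorem mem_fxS {g : LV} {v : V} : v ∈ fxS g ↔ g v = v := Iff.rfl

theorem card_sub (W : Submodule (ZMod 2) V) : ∃ k ≤ 8, Nat.card W = 2 ^ k := by
  refine ⟨Module.finrank (ZMod 2) W, ?_, ?_⟩
  · have := Submodule.finrank_le W
    rwa [finrank_V] at this
  · rw [Module.natCard_eq_pow_finrank (K := ZMod 2), Nat.card_zmod]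

theorem card_subtype_congr {α : Type*} {P Q : α → Prop} (h : ∀ a, P a ↔ Q a) :
    Nat.card {a // P a} = Nat.card {a // Q a} := Nat.card_congr (Equiv.subtypeEquivRight h)

theorem card_split {α : Type*} [Finite α] (P Q : α → Prop) :
    Nat.card {a // P a} = Nat.card {a // P a ∧ Q a} + Nat.card {a // P a ∧ ¬ Q a} := by
  classical
  let _ : Fintype α := Fintype.ofFinite α
  rw [Nat.card_eq_fintype_card, Nat.card_eq_fintype_card, Nat.card_eq_fintype_card, Fintype.card_subtype,
    Fintype.card_subtype, Fintype.card_subtype, ← Finset.card_filter_add_card_filter_not (s := Finset.filter P Finset.univ) Q,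
    Finset.filter_filter, Finset.filter_filter]

/-- a `g`-invariant subset without vectors fixed by `g ^ 3` has size divisible by nine -/
theorem nine_dvd_of {g : LV} (h9 : g ^ 9 = 1) {P : V → Prop} (hP : ∀ v, P (g v) ↔ P v) :
    9 ∣ Nat.card {v : V // P v ∧ ¬ (g ^ 3) v = v} := by
  have hc : ∀ v, (g ^ 3) (g v) = g ((g ^ 3) v) := by
    intro v
    show (g ^ 3 * g) v = (g * g ^ 3) v
    rw [← pow_succ, ← pow_succ']
  have h : ∀ v, (P (g v) ∧ ¬ (g ^ 3) (g v) = g v) ↔ (P v ∧ ¬ (g ^ 3) v = v) := by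
    intro v
    rw [hP, hc, g.injective.eq_iff]
  exact nine_dvd (sp g _ h) (sp_pow_eq_one h9) fun a ha => by
    have h1 := congrArg Subtype.val ha
    rw [sp_pow] at h1
    exact a.2.2 h1

theorem card_true : Nat.card {v : V // True} = 256 := by
  rw [← card_V]
  exact Nat.card_congr (Equiv.subtypeUnivEquiv fun _ => trivial)

section

variable {g : LV}

theorem card_fx_cube (h9 : g ^ 9 = 1) (h3 : g ^ 3 ≠ 1) : Nat.card (fxS (g ^ 3)) = 4 := by
  have h1 := nine_dvd_of h9 (P := fun _ => True) (fun _ => Iff.rfl)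
  have h2 := card_split (fun _ : V => True) (fun v => (g ^ 3) v = v)
  rw [card_true] at h2
  have h4 : Nat.card {v : V // True ∧ (g ^ 3) v = v} = Nat.card (fxS (g ^ 3)) :=
    card_subtype_congr fun v => by simp [mem_fxS]
  rw [h4] at h2
  obtain ⟨k, hk, hc⟩ := card_sub (fxS (g ^ 3))
  rw [hc] at h2 ⊢
  have h5 : k ≠ 8 := by
    rintro rfl
    apply h3
    have : fxS (g ^ 3) = ⊤ := by
      rw [Submodule.eq_top_iff']
      intro v
      have h6 : (fxS (g ^ 3) : Set V) = Set.univ := by
        apply Set.eq_of_subset_of_ncard_le (Set.subset_univ _) ?_ (Set.toFinite _)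
        rw [Set.ncard_univ, card_V, ← Nat.card_coe_set_eq]
        exact hc.ge
      have : v ∈ (fxS (g ^ 3) : Set V) := by rw [h6]; trivial
      exact this
    ext v : 1
    have h7 : v ∈ fxS (g ^ 3) := by rw [this]; trivial
    exact h7
  obtain ⟨m, hm⟩ := h1
  rw [hm] at h2
  have hk' : k < 8 := by omega
  clear hm h4 hc
  interval_cases k <;> (clear * - h2; omega)

theorem aniso_fx_cube (hg : g ∈ O8) (h9 : g ^ 9 = 1) (h3 : g ^ 3 ≠ 1) {v : V} (hv : (g ^ 3) v = v) (hq : q v = 0) :
    v = 0 := by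
  have h1 := nine_dvd_of h9 (P := fun v => q v = 0) (fun v => by rw [O8_q hg])
  have h2 := card_split (fun v : V => q v = 0) (fun v => (g ^ 3) v = v)
  rw [card_sing] at h2
  have h4 : Nat.card {v : V // q v = 0 ∧ (g ^ 3) v = v} ≤ Nat.card (fxS (g ^ 3)) :=
    Nat.card_le_card_of_injective (fun x => (⟨x.1, x.2.2⟩ : fxS (g ^ 3))) fun a b h =>
      Subtype.ext ((congrArg (fun y : fxS (g ^ 3) => (y : V)) h :))
  rw [card_fx_cube h9 h3] at h4
  have h5 : Nat.card {v : V // q v = 0 ∧ (g ^ 3) v = v} = 1 := by omega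
  rw [Nat.card_eq_one_iff_unique] at h5
  obtain ⟨h6, -⟩ := h5
  have h7 := h6.elim ⟨v, hq, hv⟩ ⟨0, q_zero, map_zero _⟩
  exact congrArg Subtype.val h7

end

end Cfsg.Agent.H320.O8
end

-- part: H320/O8/TwoGrp
section
/-!
# Two-subgroups of `Ω₈⁺(2)` normalised by an element of order nine (helper320)
-/

set_option autoImplicit false

namespace Cfsg.Agent.H320.O8

open Cfsg.Agent.StdO8.Model Cfsg.Agent.StdO8.Code Module

theorem card_eq_pow (W : Submodule (ZMod 2) V) : Nat.card W = 2 ^ finrank (ZMod 2) W := by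
  rw [Module.natCard_eq_pow_finrank (K := ZMod 2), Nat.card_zmod]

theorem finrank_le_eight (W : Submodule (ZMod 2) V) : finrank (ZMod 2) W ≤ 8 := by
  have := Submodule.finrank_le W
  rwa [finrank_V] at this

theorem three_add (v : V) : v + v + v = v := by rw [add_self, zero_add]

section Three

variable {h : LV}

/-- the trace -/
def tr (h : LV) : V →ₗ[ZMod 2] V :=
  LinearMap.id + (h : V →ₗ[ZMod 2] V) + (h : V →ₗ[ZMod 2] V) ∘ₗ (h : V →ₗ[ZMod 2] V)

theorem tr_apply (v : V) : tr h v = v + h v + h (h v) := rfl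

theorem cube_apply (h3 : h ^ 3 = 1) (v : V) : h (h (h v)) = v := by
  have h1 : (h ^ 3) v = v := by rw [h3]; rfl
  rw [pow_succ, pow_two] at h1
  exact h1

theorem h_tr (h3 : h ^ 3 = 1) (v : V) : h (tr h v) = tr h v := by
  rw [tr_apply, map_add, map_add, cube_apply h3]
  abel

theorem tr_h (h3 : h ^ 3 = 1) (v : V) : tr h (h v) = tr h v := by
  rw [tr_apply, tr_apply, cube_apply h3]
  abel

theorem tr_of_fix {v : V} (hv : h v = v) : tr h v = v := by
  rw [tr_apply, hv, hv, three_add]

theorem tr_tr (h3 : h ^ 3 = 1) (v : V) : tr h (tr h v) = tr h v := tr_of_fix (h_tr h3 v)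

theorem range_tr (h3 : h ^ 3 = 1) : LinearMap.range (tr h) = fxS h := by
  ext v
  constructor
  · rintro ⟨u, rfl⟩
    exact h_tr h3 u
  · intro hv
    exact ⟨v, tr_of_fix hv⟩

theorem add_tr_mem (h3 : h ^ 3 = 1) (v : V) : v + tr h v ∈ LinearMap.ker (tr h) := by
  rw [LinearMap.mem_ker, map_add, tr_tr h3, add_self]

theorem B_perp (hO : h ∈ O8) {x y : V} (hx : h x = x) (hy : tr h y = 0) : B x y = 0 := by
  have h1 : B x (h y) = B x y := by
    have := O8_B hO x y
    rwa [hx] at this
  have h2 : B x (h (h y)) = B x y := by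
    have := O8_B hO x (h y)
    rw [hx] at this
    rw [this, h1]
  have h3 : B x (tr h y) = B x y + B x y + B x y := by
    rw [tr_apply, B_add_right, B_add_right, h1, h2]
  rw [hy, B_zero_right] at h3
  have h4 : ∀ a : ZMod 2, 0 = a + a + a → a = 0 := by decide
  exact h4 _ h3

theorem fix_of_perp (hO : h ∈ O8) (h3 : h ^ 3 = 1) {v : V} (hv : ∀ y, tr h y = 0 → B v y = 0) : h v = v := by
  have h1 : v + h v = 0 := by
    apply nondeg
    intro u
    obtain ⟨w, rfl⟩ : ∃ w, h w = u := ⟨h (h u), cube_apply h3 u⟩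
    have h2 : B (h v) (h w) = B v w := O8_B hO v w
    rw [B_add_left, h2, ← B_add_right]
    apply hv
    rw [map_add, tr_h h3, add_self]
  exact (eq_of_add_eq_zero h1).symm

end Three

/-- vectors fixed by a subgroup -/
def fxK (K : Subgroup LV) : Submodule (ZMod 2) V where
  carrier := {v | ∀ k ∈ K, k v = v}
  add_mem' := fun {a b} ha hb k hk => by rw [map_add, ha k hk, hb k hk]
  zero_mem' := fun k _ => map_zero k
  smul_mem' := fun c {a} ha k hk => by rw [map_smul, ha k hk]

/-- a 2-subgroup fixes a singular vector -/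
theorem exists_sing {K : Subgroup LV} (hK : K ≤ O8) (h2 : IsPGroup 2 K) : ∃ v ∈ fxK K, v ≠ 0 ∧ q v = 0 := by
  let _ : MulAction K {v : V // q v = 0} :=
    { smul := fun k v => ⟨(k : LV) v.1, by rw [O8_q (hK k.2)]; exact v.2⟩
      one_smul := fun v => Subtype.ext rfl
      mul_smul := fun k l v => Subtype.ext rfl }
  have h1 := h2.card_modEq_card_fixedPoints (α := {v : V // q v = 0})
  rw [card_sing] at h1
  by_contra hno
  push Not at hno
  have h3 : ∀ x : MulAction.fixedPoints K {v : V // q v = 0}, x = ⟨⟨0, q_zero⟩, fun k => Subtype.ext (map_zero (k : LV))⟩ := by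
    rintro ⟨⟨v, hv⟩, hx⟩
    apply Subtype.ext
    apply Subtype.ext
    by_contra h0
    exact hno v (fun k hk => congrArg Subtype.val (hx ⟨k, hk⟩)) h0 hv
  have h4 : Nat.card (MulAction.fixedPoints K {v : V // q v = 0}) = 1 := by
    rw [Nat.card_eq_one_iff_unique]
    exact ⟨⟨fun a b => by rw [h3 a, h3 b]⟩, ⟨⟨⟨0, q_zero⟩, fun k => Subtype.ext (map_zero (k : LV))⟩⟩⟩
  rw [h4] at h1
  exact absurd h1 (by decide)

/-- **no 2-subgroup of order `≠ 1` is normalised by an element of order nine and one of order seven** -/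
theorem two_group {K : Subgroup LV} (hK : K ≤ O8) (h2 : IsPGroup 2 K) (h7 : Nat.card K % 7 = 1) {g : LV}
    (hg : g ∈ O8) (h9 : g ^ 9 = 1) (h3 : g ^ 3 ≠ 1) (hn : ∀ k ∈ K, g⁻¹ * k * g ∈ K)
    (hn' : ∀ k ∈ K, g * k * g⁻¹ ∈ K) : K = ⊥ := by
  have h33 : (g ^ 3) ^ 3 = 1 := by rw [← pow_mul]; exact h9
  have hO : g ^ 3 ∈ O8 := Subgroup.pow_mem _ hg 3
  obtain ⟨v₀, hv₀, hne, hq₀⟩ := exists_sing hK h2
  have hW : ∀ v, g v ∈ fxK K ↔ v ∈ fxK K := by
    intro v
    constructor
    · intro hv k hk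
      have h1 := hv _ (hn' k hk)
      have h4 : (g * k * g⁻¹) (g v) = g (k v) := by
        show g (k (g⁻¹ (g v))) = g (k v)
        have : g⁻¹ (g v) = v := by
          show (g⁻¹ * g) v = v
          rw [inv_mul_cancel]; rfl
        rw [this]
      rw [h4] at h1
      exact g.injective h1
    · intro hv k hk
      have h1 := hv _ (hn k hk)
      have h4 : g ((g⁻¹ * k * g) v) = k (g v) := by
        show (g * (g⁻¹ * k * g)) v = (k * g) v
        congr 1
        group
      rw [h1] at h4
      exact h4.symm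
  -- dimensions
  have h1 := nine_dvd_of h9 (P := fun v => v ∈ fxK K) hW
  have h4 := card_split (fun v : V => v ∈ fxK K) (fun v => (g ^ 3) v = v)
  have h5 : Nat.card {v : V // v ∈ fxK K} = 2 ^ finrank (ZMod 2) (fxK K) := card_eq_pow _
  have h6 : Nat.card {v : V // v ∈ fxK K ∧ (g ^ 3) v = v} =
      2 ^ finrank (ZMod 2) (fxK K ⊓ fxS (g ^ 3) : Submodule (ZMod 2) V) := card_eq_pow (fxK K ⊓ fxS (g ^ 3))
  have hX : finrank (ZMod 2) (fxS (g ^ 3)) = 2 := by
    have h8 := card_eq_pow (fxS (g ^ 3))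
    rw [card_fx_cube h9 h3] at h8
    have h81 : (2 : ℕ) ^ 2 = 2 ^ finrank (ZMod 2) (fxS (g ^ 3)) := by rw [← h8]; norm_num
    exact (Nat.pow_right_injective le_rfl h81).symm
  have hb : finrank (ZMod 2) (fxK K ⊓ fxS (g ^ 3) : Submodule (ZMod 2) V) ≤ 2 := by
    exact (Submodule.finrank_mono inf_le_right).trans_eq hX
  have ha := finrank_le_eight (fxK K)
  rw [h5, h6] at h4
  have h10 : Nat.card {v : V // v ∈ fxK K ∧ ¬ (g ^ 3) v = v} ≠ 0 := by
    rw [Nat.card_ne_zero]
    exact ⟨⟨⟨v₀, hv₀, fun h => hne (aniso_fx_cube hg h9 h3 h hq₀)⟩⟩, inferInstance⟩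
  have hab : finrank (ZMod 2) (fxK K) = finrank (ZMod 2) (fxK K ⊓ fxS (g ^ 3) : Submodule (ZMod 2) V) + 6 := by
    obtain ⟨m, hm⟩ := h1
    rw [hm] at h4 h10
    generalize finrank (ZMod 2) (fxK K ⊓ fxS (g ^ 3) : Submodule (ZMod 2) V) = b at hb h4 ⊢
    generalize finrank (ZMod 2) (fxK K) = a at ha h4 ⊢
    clear h5 h6 hm
    interval_cases b <;> interval_cases a <;> (clear * - h10 h4; omega)
  -- `[V, g ^ 3]` is fixed by `K`
  have hY : LinearMap.ker (tr (g ^ 3)) ≤ fxK K := by
    have e1 := LinearMap.finrank_range_add_finrank_ker (tr (g ^ 3))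
    rw [range_tr h33, hX, finrank_V] at e1
    have e2 := LinearMap.finrank_range_add_finrank_ker ((tr (g ^ 3)).domRestrict (fxK K))
    have e3 : LinearMap.range ((tr (g ^ 3)).domRestrict (fxK K)) ≤ fxK K ⊓ fxS (g ^ 3) := by
      rintro _ ⟨⟨v, hv⟩, rfl⟩
      have hc : ∀ u ∈ fxK K, (g ^ 3) u ∈ fxK K := by
        intro u hu
        have : (g ^ 3) u = g (g (g u)) := by rw [pow_succ, pow_two]; rfl
        rw [this, hW, hW, hW]
        exact hu
      refine ⟨?_, h_tr h33 v⟩
      show tr (g ^ 3) v ∈ fxK K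
      rw [tr_apply]
      exact Submodule.add_mem _ (Submodule.add_mem _ hv (hc _ hv)) (hc _ (hc _ hv))
    have e4 := Submodule.finrank_mono e3
    have e5 : finrank (ZMod 2) (LinearMap.ker ((tr (g ^ 3)).domRestrict (fxK K))) ≤
        finrank (ZMod 2) (LinearMap.ker (tr (g ^ 3)) ⊓ fxK K : Submodule (ZMod 2) V) := by
      refine LinearMap.finrank_le_finrank_of_injective
        (f := { toFun := fun v => (⟨v.1.1, v.2, v.1.2⟩ : ↥(LinearMap.ker (tr (g ^ 3)) ⊓ fxK K))
                map_add' := fun a b => rfl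
                map_smul' := fun a b => rfl }) ?_
      intro a b hab
      apply Subtype.ext
      apply Subtype.ext
      exact (congrArg (fun y : ↥(LinearMap.ker (tr (g ^ 3)) ⊓ fxK K) => (y : V)) hab :)
    have e6 : LinearMap.ker (tr (g ^ 3)) ⊓ fxK K = LinearMap.ker (tr (g ^ 3)) := by
      apply Submodule.eq_of_le_of_finrank_le inf_le_left
      omega
    rw [← e6]
    exact inf_le_right
  have hXK : ∀ k ∈ K, ∀ x, (g ^ 3) x = x → (g ^ 3) (k x) = k x := by
    intro k hk x hx
    apply fix_of_perp hO h33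
    intro y hy
    have e1 := O8_B (hK hk) x y
    have e2 : k y = y := hY (LinearMap.mem_ker.2 hy) k hk
    rw [e2] at e1
    rw [e1]
    exact B_perp hO hx hy
  -- the action on the nonzero vectors fixed by `g ^ 3`
  let α := {x : V // (g ^ 3) x = x ∧ x ≠ 0}
  let _ : MulAction K α :=
    { smul := fun k v => ⟨(k : LV) v.1, hXK k k.2 v.1 v.2.1, fun h => v.2.2 ((LinearEquiv.map_eq_zero_iff (k : LV)).1 h)⟩
      one_smul := fun v => Subtype.ext rfl
      mul_smul := fun k l v => Subtype.ext rfl }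
  have hinj : Function.Injective (MulAction.toPermHom K α) := by
    rw [injective_iff_map_eq_one]
    intro k hk
    have e1 : ∀ x, (g ^ 3) x = x → (k : LV) x = x := by
      intro x hx
      by_cases h0 : x = 0
      · rw [h0]; exact map_zero _
      · have := congrArg (fun f : Equiv.Perm α => ((f ⟨x, hx, h0⟩ : α) : V)) hk
        exact this
    apply Subtype.ext
    ext v : 1
    have e2 : v = tr (g ^ 3) v + (v + tr (g ^ 3) v) := by
      rw [add_comm v, ← add_assoc, add_self, zero_add]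
    have e3 : (k : LV) (v + tr (g ^ 3) v) = v + tr (g ^ 3) v := hY (add_tr_mem h33 v) k k.2
    have e4 : (k : LV) (tr (g ^ 3) v) = tr (g ^ 3) v := e1 _ (h_tr h33 v)
    calc (k : LV) v = (k : LV) (tr (g ^ 3) v + (v + tr (g ^ 3) v)) := by rw [← e2]
      _ = tr (g ^ 3) v + (v + tr (g ^ 3) v) := by rw [map_add, e3, e4]
      _ = v := e2.symm
  have hcα : Nat.card α = 3 := by
    have e1 := card_split (fun x : V => (g ^ 3) x = x) (fun x => x ≠ 0)
    have e2 : Nat.card {x : V // (g ^ 3) x = x} = 4 := card_fx_cube h9 h3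
    have e3 : Nat.card {x : V // (g ^ 3) x = x ∧ ¬ x ≠ 0} = 1 := by
      rw [Nat.card_eq_one_iff_unique]
      refine ⟨⟨fun a b => Subtype.ext ?_⟩, ⟨⟨0, map_zero _, fun h => h rfl⟩⟩⟩
      rw [not_not.1 a.2.2, not_not.1 b.2.2]
    have e4 : Nat.card α = Nat.card {x : V // (g ^ 3) x = x ∧ x ≠ 0} := rfl
    omega
  have hdvd : Nat.card K ∣ 6 := by
    have e1 := Subgroup.card_dvd_of_injective _ hinj
    have e2 : Nat.card (Equiv.Perm α) = 6 := by
      rw [Nat.card_perm, hcα]
      rfl
    rwa [e2] at e1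
  have hle := Nat.le_of_dvd (by norm_num) hdvd
  rw [← Subgroup.card_eq_one]
  omega

end Cfsg.Agent.H320.O8
end

-- part: H320/O8/NoFive
section
/-!
# An involution of type `c₄` of `Ω₈⁺(2)` does not commute with the cube... (helper320)

If `z` is an involution with `ker (z - 1) = im (z - 1)` and `B (v, z v) ≠ 0` for some `v`, and `s` is an element
of order three commuting with `z`, then `s` commutes with no element of order five.
-/

set_option autoImplicit false

namespace Cfsg.Agent.H320.O8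

open Cfsg.Agent.StdO8.Model Cfsg.Agent.StdO8.Code Module

variable {z s f : LV}

theorem comm_apply {a b : LV} (h : a * b = b * a) (v : V) : a (b v) = b (a v) := by
  show (a * b) v = (b * a) v
  rw [h]

theorem tr_comm {a h : LV} (hc : a * h = h * a) (v : V) : tr h (a v) = a (tr h v) := by
  rw [tr_apply, tr_apply, map_add, map_add, comm_apply hc, comm_apply hc, comm_apply hc]

theorem polar_z_add (hz : z ∈ O8) (hz2 : z * z = 1) (a b : V) :
    B (a + b) (z (a + b)) = B a (z a) + B b (z b) := by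
  have hzz : ∀ v, z (z v) = v := fun v => by
    show (z * z) v = v
    rw [hz2]; rfl
  have h1 : B b (z a) = B a (z b) := by
    have := O8_B hz b (z a)
    rw [hzz] at this
    rw [← this, B_comm]
  rw [map_add, B_add_left, B_add_right, B_add_right, h1]
  have : ∀ x y w : ZMod 2, x + w + (w + y) = x + y := by decide
  exact this _ _ _

theorem polar_z_zero (hz : z ∈ O8) (hz2 : z * z = 1) (hs : s ∈ O8) (hzs : z * s = s * z) {v : V} (hv : tr s v = 0) :
    B v (z v) = 0 := by
  have h1 : ∀ u, B (s u) (z (s u)) = B u (z u) := by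
    intro u
    rw [comm_apply hzs, O8_B hs]
  have h2 : B (tr s v) (z (tr s v)) = B v (z v) + B v (z v) + B v (z v) := by
    rw [tr_apply, polar_z_add hz hz2, polar_z_add hz hz2, h1, h1, h1]
  rw [hv, map_zero, B_zero_left] at h2
  have h3 : ∀ a : ZMod 2, 0 = a + a + a → a = 0 := by decide
  exact h3 _ h2

theorem eq_one_of_ker_bot (hs3 : s ^ 3 = 1) (h : ∀ v, tr s v = 0 → v = 0) : s = 1 := by
  ext v : 1
  have h1 := h _ (LinearMap.mem_ker.1 (add_tr_mem hs3 v))
  have h2 := eq_of_add_eq_zero h1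
  rw [h2]
  exact h_tr hs3 v

/-- the dimension of the commutator space -/
theorem finrank_ker_tr (hz : z ∈ O8) (hs : s ∈ O8) (hz2 : z * z = 1) (hker : ∀ v, z v = v → ∃ u, z u + u = v)
    (hc : ∃ v, B v (z v) ≠ 0) (hs3 : s ^ 3 = 1) (hs1 : s ≠ 1) (hzs : z * s = s * z) :
    finrank (ZMod 2) (LinearMap.ker (tr s)) = 4 := by
  have hzz : ∀ v, z (z v) = v := fun v => by
    show (z * z) v = v
    rw [hz2]; rfl
  let φ : V →ₗ[ZMod 2] V := (z : V →ₗ[ZMod 2] V) + LinearMap.id
  have hφ : ∀ v, φ v = z v + v := fun v => rfl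
  have e1 := LinearMap.finrank_range_add_finrank_ker (φ.domRestrict (LinearMap.ker (tr s)))
  have e2 : LinearMap.range (φ.domRestrict (LinearMap.ker (tr s))) = LinearMap.ker (tr s) ⊓ fxS z := by
    ext v
    constructor
    · rintro ⟨⟨u, hu⟩, rfl⟩
      have hu' : tr s u = 0 := hu
      constructor
      · show tr s (z u + u) = 0
        rw [map_add, tr_comm hzs, hu', map_zero, add_zero]
      · show z (z u + u) = z u + u
        rw [map_add, hzz, add_comm]
    · rintro ⟨h1, h2⟩
      obtain ⟨u, hu⟩ := hker v h2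
      refine ⟨⟨u + tr s u, add_tr_mem hs3 u⟩, ?_⟩
      show z (u + tr s u) + (u + tr s u) = v
      have h3 : tr s v = 0 := h1
      rw [← hu, map_add, tr_comm hzs] at h3
      rw [map_add]
      calc z u + z (tr s u) + (u + tr s u) = (z u + u) + (z (tr s u) + tr s u) := by abel
        _ = v := by rw [h3, hu, add_zero]
  have e3 : finrank (ZMod 2) (LinearMap.ker (φ.domRestrict (LinearMap.ker (tr s)))) =
      finrank (ZMod 2) (LinearMap.ker (tr s) ⊓ fxS z : Submodule (ZMod 2) V) := by
    refine LinearEquiv.finrank_eq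
      { toFun := fun v => (⟨v.1.1, v.1.2, eq_of_add_eq_zero v.2⟩ : ↥(LinearMap.ker (tr s) ⊓ fxS z))
        map_add' := fun a b => rfl
        map_smul' := fun a b => rfl
        invFun := fun v => ⟨⟨v.1, v.2.1⟩, by
          show z v.1 + v.1 = 0
          rw [show z v.1 = v.1 from v.2.2, add_self]⟩
        left_inv := fun v => rfl
        right_inv := fun v => rfl }
  rw [e2, e3] at e1
  have e4 : Nat.card {v : V // tr s v = 0 ∧ z v = v} =
      2 ^ finrank (ZMod 2) (LinearMap.ker (tr s) ⊓ fxS z : Submodule (ZMod 2) V) :=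
    card_eq_pow (LinearMap.ker (tr s) ⊓ fxS z)
  have hP : ∀ v, (tr s (s v) = 0 ∧ z (s v) = s v) ↔ (tr s v = 0 ∧ z v = v) := by
    intro v
    rw [tr_h hs3, comm_apply hzs, s.injective.eq_iff]
  have e5 := fix_mod Nat.prime_three (sp s (fun v => tr s v = 0 ∧ z v = v) hP) (sp_pow_eq_one hs3)
  have e6 : Nat.card {a : {v : V // tr s v = 0 ∧ z v = v} // sp s (fun v => tr s v = 0 ∧ z v = v) hP a = a} = 1 := by
    rw [Nat.card_eq_one_iff_unique]
    refine ⟨⟨?_⟩, ⟨⟨⟨0, map_zero _, map_zero _⟩, Subtype.ext (map_zero s)⟩⟩⟩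
    have : ∀ a : {a : {v : V // tr s v = 0 ∧ z v = v} // sp s (fun v => tr s v = 0 ∧ z v = v) hP a = a}, ((a : {v : V // tr s v = 0 ∧ z v = v}) : V) = 0 := by
      rintro ⟨⟨v, hv1, hv2⟩, hv⟩
      have h1 : s v = v := congrArg Subtype.val hv
      rw [tr_of_fix h1] at hv1
      exact hv1
    intro a b
    apply Subtype.ext
    apply Subtype.ext
    rw [this a, this b]
  rw [e4, e6] at e5
  have ha := finrank_le_eight (LinearMap.ker (tr s))
  have h0 : finrank (ZMod 2) (LinearMap.ker (tr s)) ≠ 0 := by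
    intro h
    apply hs1
    apply eq_one_of_ker_bot hs3
    intro v hv
    have h1 : LinearMap.ker (tr s) = ⊥ := Submodule.finrank_eq_zero.1 h
    have h2 : v ∈ LinearMap.ker (tr s) := hv
    rw [h1] at h2
    exact (Submodule.mem_bot _).1 h2
  have h8 : finrank (ZMod 2) (LinearMap.ker (tr s)) ≠ 8 := by
    intro h
    obtain ⟨v, hv⟩ := hc
    apply hv
    apply polar_z_zero hz hz2 hs hzs
    have h1 : LinearMap.ker (tr s) = ⊤ := Submodule.eq_top_of_finrank_eq (by rw [h, finrank_V])
    have h2 : v ∈ LinearMap.ker (tr s) := by rw [h1]; trivial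
    exact h2
  generalize finrank (ZMod 2) (LinearMap.ker (tr s) ⊓ fxS z : Submodule (ZMod 2) V) = k at e1 e5
  generalize finrank (ZMod 2) (LinearMap.ker (tr s)) = y at e1 ha h0 h8 ⊢
  have hk : k ≤ 4 := by omega
  rw [Nat.ModEq] at e5
  interval_cases k <;> omega

/-- a map of order five on an invariant subspace of dimension four -/
theorem five_on {W : Submodule (ZMod 2) V} (hW : finrank (ZMod 2) W = 4) (hf : f ∈ O8) (hf5 : f ^ 5 = 1)
    (hfW : ∀ v, f v ∈ W ↔ v ∈ W) : (∀ v ∈ W, f v = v) ∨ Nat.card {v : V // v ∈ W ∧ q v = 0} % 5 = 1 := by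
  have h5 : Nat.Prime 5 := by norm_num
  have e1 := fix_mod h5 (sp f (fun v => v ∈ W) hfW) (sp_pow_eq_one hf5)
  have e2 : Nat.card {v : V // v ∈ W} = 16 := by
    have := card_eq_pow W
    rw [hW] at this
    exact this
  have e3 : Nat.card {a : {v : V // v ∈ W} // sp f (fun v => v ∈ W) hfW a = a} = 2 ^ finrank (ZMod 2) (W ⊓ fxS f : Submodule (ZMod 2) V) := by
    rw [← card_eq_pow]
    exact Nat.card_congr
      { toFun := fun a => (⟨a.1.1, a.1.2, congrArg Subtype.val a.2⟩ : ↥(W ⊓ fxS f))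
        invFun := fun a => ⟨⟨a.1, a.2.1⟩, Subtype.ext a.2.2⟩
        left_inv := fun a => rfl
        right_inv := fun a => rfl }
  rw [e2, e3] at e1
  have hle : finrank (ZMod 2) (W ⊓ fxS f : Submodule (ZMod 2) V) ≤ 4 :=
    (Submodule.finrank_mono inf_le_left).trans_eq hW
  have h04 : finrank (ZMod 2) (W ⊓ fxS f : Submodule (ZMod 2) V) = 0 ∨
      finrank (ZMod 2) (W ⊓ fxS f : Submodule (ZMod 2) V) = 4 := by
    generalize finrank (ZMod 2) (W ⊓ fxS f : Submodule (ZMod 2) V) = k at e1 hle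
    rw [Nat.ModEq] at e1
    interval_cases k <;> omega
  rcases h04 with h | h
  · right
    have hb : W ⊓ fxS f = ⊥ := Submodule.finrank_eq_zero.1 h
    have hP : ∀ v, (f v ∈ W ∧ q (f v) = 0) ↔ (v ∈ W ∧ q v = 0) := fun v => by rw [hfW, O8_q hf]
    have e4 := fix_mod h5 (sp f (fun v => v ∈ W ∧ q v = 0) hP) (sp_pow_eq_one hf5)
    have e5 : Nat.card {a : {v : V // v ∈ W ∧ q v = 0} // sp f (fun v => v ∈ W ∧ q v = 0) hP a = a} = 1 := by
      rw [Nat.card_eq_one_iff_unique]
      refine ⟨⟨?_⟩, ⟨⟨⟨0, W.zero_mem, q_zero⟩, Subtype.ext (map_zero f)⟩⟩⟩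
      have : ∀ a : {a : {v : V // v ∈ W ∧ q v = 0} // sp f (fun v => v ∈ W ∧ q v = 0) hP a = a}, ((a : {v : V // v ∈ W ∧ q v = 0}) : V) = 0 := by
        rintro ⟨⟨v, hv1, hv2⟩, hv⟩
        have h1 : v ∈ W ⊓ fxS f := ⟨hv1, congrArg Subtype.val hv⟩
        rw [hb] at h1
        exact (Submodule.mem_bot _).1 h1
      intro a b
      apply Subtype.ext
      apply Subtype.ext
      rw [this a, this b]
    rw [e5] at e4
    exact e4
  · left
    have hb : W ⊓ fxS f = W := Submodule.eq_of_le_of_finrank_eq inf_le_left (by rw [h, hW])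
    intro v hv
    rw [← hb] at hv
    exact hv.2

/-- **no element of order five** -/
theorem no_five (hz : z ∈ O8) (hs : s ∈ O8) (hf : f ∈ O8) (hz2 : z * z = 1)
    (hker : ∀ v, z v = v → ∃ u, z u + u = v) (hc : ∃ v, B v (z v) ≠ 0) (hs3 : s ^ 3 = 1) (hs1 : s ≠ 1)
    (hzs : z * s = s * z) (hf5 : f ^ 5 = 1) (hfs : f * s = s * f) : f = 1 := by
  have hy := finrank_ker_tr hz hs hz2 hker hc hs3 hs1 hzs
  have hx : finrank (ZMod 2) (fxS s) = 4 := by
    have e1 := LinearMap.finrank_range_add_finrank_ker (tr s)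
    rw [range_tr hs3, hy, finrank_V] at e1
    omega
  have hsX : ∀ v, f v ∈ fxS s ↔ v ∈ fxS s := fun v => by
    rw [mem_fxS, mem_fxS, ← comm_apply hfs, f.injective.eq_iff]
  have hsY : ∀ v, f v ∈ LinearMap.ker (tr s) ↔ v ∈ LinearMap.ker (tr s) := fun v => by
    rw [LinearMap.mem_ker, LinearMap.mem_ker, tr_comm hfs, LinearEquiv.map_eq_zero_iff]
  have hX := five_on hx hf hf5 hsX
  have hY := five_on hy hf hf5 hsY
  -- the numbers of singular vectors
  have c1 : Nat.card {v : V // v ∈ fxS s} = 16 := by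
    have := card_eq_pow (fxS s)
    rw [hx] at this
    exact this
  have c2 : Nat.card {v : V // v ∈ LinearMap.ker (tr s)} = 16 := by
    have := card_eq_pow (LinearMap.ker (tr s))
    rw [hy] at this
    exact this
  have c3 := card_split (fun v : V => v ∈ fxS s) (fun v => q v = 0)
  have c4 := card_split (fun v : V => v ∈ LinearMap.ker (tr s)) (fun v => q v = 0)
  have c5 := card_split (fun v : V => q v = 0) (fun v => q (tr s v) = 0)
  rw [card_sing] at c5
  have hq : ∀ v, q v = q (tr s v) + q (v + tr s v) := by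
    intro v
    have e1 : B (tr s v) (v + tr s v) = 0 := B_perp hs (h_tr hs3 v) (LinearMap.mem_ker.1 (add_tr_mem hs3 v))
    have e2 := q_add (tr s v) (v + tr s v)
    rw [e1, add_zero, add_comm v, ← add_assoc, add_self, zero_add] at e2
    rw [e2, add_comm v]
  have hsum : ∀ x y, s x = x → tr s y = 0 → tr s (x + y) = x ∧ x + y + tr s (x + y) = y := by
    intro x y hx hy
    have e1 : tr s (x + y) = x := by rw [map_add, hy, tr_of_fix hx, add_zero]
    refine ⟨e1, ?_⟩
    rw [e1, add_comm x y, add_assoc, add_self, add_zero]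
  have c6 : Nat.card {v : V // q v = 0 ∧ q (tr s v) = 0} =
      Nat.card {v : V // v ∈ fxS s ∧ q v = 0} * Nat.card {v : V // v ∈ LinearMap.ker (tr s) ∧ q v = 0} := by
    rw [← Nat.card_prod]
    exact Nat.card_congr
      { toFun := fun v => (⟨tr s v.1, h_tr hs3 v.1, v.2.2⟩, ⟨v.1 + tr s v.1, add_tr_mem hs3 v.1, by
          have := hq v.1
          rw [v.2.1, v.2.2, zero_add] at this
          exact this.symm⟩)
        invFun := fun p => ⟨p.1.1 + p.2.1, by
          have h1 := hsum p.1.1 p.2.1 p.1.2.1 p.2.2.1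
          refine ⟨?_, ?_⟩
          · rw [hq, h1.2, h1.1, p.1.2.2, p.2.2.2, zero_add]
          · rw [h1.1]; exact p.1.2.2⟩
        left_inv := fun v => Subtype.ext (by
          show tr s v.1 + (v.1 + tr s v.1) = v.1
          rw [add_comm v.1, ← add_assoc, add_self, zero_add])
        right_inv := fun p => by
          have h1 := hsum p.1.1 p.2.1 p.1.2.1 p.2.2.1
          exact Prod.ext (Subtype.ext h1.1) (Subtype.ext h1.2) }
  have c7 : Nat.card {v : V // q v = 0 ∧ ¬ q (tr s v) = 0} =
      Nat.card {v : V // v ∈ fxS s ∧ ¬ q v = 0} * Nat.card {v : V // v ∈ LinearMap.ker (tr s) ∧ ¬ q v = 0} := by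
    rw [← Nat.card_prod]
    have hz2 : ∀ a b : ZMod 2, a + b = 0 → a ≠ 0 → b ≠ 0 := by decide
    have hz3 : ∀ a b : ZMod 2, a ≠ 0 → b ≠ 0 → a + b = 0 := by decide
    exact Nat.card_congr
      { toFun := fun v => (⟨tr s v.1, h_tr hs3 v.1, v.2.2⟩, ⟨v.1 + tr s v.1, add_tr_mem hs3 v.1, by
          have := hq v.1
          rw [v.2.1] at this
          exact hz2 _ _ this.symm v.2.2⟩)
        invFun := fun p => ⟨p.1.1 + p.2.1, by
          have h1 := hsum p.1.1 p.2.1 p.1.2.1 p.2.2.1
          refine ⟨?_, ?_⟩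
          · rw [hq, h1.2, h1.1]; exact hz3 _ _ p.1.2.2 p.2.2.2
          · rw [h1.1]; exact p.1.2.2⟩
        left_inv := fun v => Subtype.ext (by
          show tr s v.1 + (v.1 + tr s v.1) = v.1
          rw [add_comm v.1, ← add_assoc, add_self, zero_add])
        right_inv := fun p => by
          have h1 := hsum p.1.1 p.2.1 p.1.2.1 p.2.2.1
          exact Prod.ext (Subtype.ext h1.1) (Subtype.ext h1.2) }
  -- modulo three
  have hP : ∀ v, (s v ∈ LinearMap.ker (tr s) ∧ q (s v) = 0) ↔ (v ∈ LinearMap.ker (tr s) ∧ q v = 0) := fun v => by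
    rw [LinearMap.mem_ker, LinearMap.mem_ker, tr_h hs3, O8_q hs]
  have e5 := fix_mod Nat.prime_three (sp s (fun v => v ∈ LinearMap.ker (tr s) ∧ q v = 0) hP) (sp_pow_eq_one hs3)
  have e6 : Nat.card {a : {v : V // v ∈ LinearMap.ker (tr s) ∧ q v = 0} // sp s (fun v => v ∈ LinearMap.ker (tr s) ∧ q v = 0) hP a = a} = 1 := by
    rw [Nat.card_eq_one_iff_unique]
    refine ⟨⟨?_⟩, ⟨⟨⟨0, Submodule.zero_mem _, q_zero⟩, Subtype.ext (map_zero s)⟩⟩⟩
    have : ∀ a : {a : {v : V // v ∈ LinearMap.ker (tr s) ∧ q v = 0} // sp s (fun v => v ∈ LinearMap.ker (tr s) ∧ q v = 0) hP a = a},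
        ((a : {v : V // v ∈ LinearMap.ker (tr s) ∧ q v = 0}) : V) = 0 := by
      rintro ⟨⟨v, hv1, hv2⟩, hv⟩
      have h1 : s v = v := congrArg Subtype.val hv
      have h2 : tr s v = 0 := hv1
      rw [tr_of_fix h1] at h2
      exact h2
    intro a b
    apply Subtype.ext
    apply Subtype.ext
    rw [this a, this b]
  rw [e6] at e5
  rw [c1] at c3
  rw [c2] at c4
  rw [c6, c7] at c5
  rw [Nat.ModEq] at e5
  generalize Nat.card {v : V // v ∈ fxS s ∧ q v = 0} = n0 at c3 c5 hX
  generalize Nat.card {v : V // v ∈ fxS s ∧ ¬ q v = 0} = m0 at c3 c5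
  generalize Nat.card {v : V // v ∈ LinearMap.ker (tr s) ∧ q v = 0} = n1 at c4 c5 hY e5
  generalize Nat.card {v : V // v ∈ LinearMap.ker (tr s) ∧ ¬ q v = 0} = m1 at c4 c5
  have hm0 : m0 = 16 - n0 := by omega
  have hm1 : m1 = 16 - n1 := by omega
  subst hm0 hm1
  have hn0 : n0 ≤ 16 := by omega
  have hn1 : n1 ≤ 16 := by omega
  have hX' : ∀ v ∈ fxS s, f v = v := by
    rcases hX with h | h
    · exact h
    · exfalso
      clear hY c3 c4
      interval_cases n0 <;> (clear * - hP c5 hn1 h e5; omega)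
  have hY' : ∀ v ∈ LinearMap.ker (tr s), f v = v := by
    rcases hY with h | h
    · exact h
    · exfalso
      clear hX c3 c4
      interval_cases n1 <;> (clear * - hP e5 hn0 c5 h; omega)
  ext v : 1
  have e7 : v = tr s v + (v + tr s v) := by rw [add_comm v, ← add_assoc, add_self, zero_add]
  calc f v = f (tr s v + (v + tr s v)) := by rw [← e7]
    _ = tr s v + (v + tr s v) := by rw [map_add, hX' _ (h_tr hs3 v), hY' _ (add_tr_mem hs3 v)]
    _ = v := e7.symm

end Cfsg.Agent.H320.O8
end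

-- part: H320/O8/Facts
section
/-!
# Facts on `Ω₈⁺(2)` (helper320)
-/

set_option autoImplicit false

namespace Cfsg.Agent.H320.O8

open Cfsg.Agent.StdO8.Model Cfsg.Agent.StdO8.Code Cfsg Subgroup

/-- the facts -/
structure Fct (T : Type*) [Group T] : Prop where
  card : Nat.card T = 174182400
  c7 : ∀ y : T, orderOf y = 7 → Nat.card (centralizer ({y} : Set T)) = 7
  two : ∀ (K : Subgroup T) (g : T), IsPGroup 2 K → Nat.card K % 7 = 1 → orderOf g = 9 →
    (∀ k ∈ K, g⁻¹ * k * g ∈ K) → (∀ k ∈ K, g * k * g⁻¹ ∈ K) → K = ⊥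
  e8 : ∃ y : T, orderOf y = 8
  e9 : ∃ y : T, orderOf y = 9
  e15 : ∃ y : T, orderOf y = 15
  e3 : ∃ x : T, orderOf x = 3 ∧ ∀ y, orderOf y = 9 → y ^ 3 ≠ x
  e4 : ∃ g : T, g ^ 4 = 1 ∧ ∀ s f : T, orderOf s = 3 → orderOf f = 5 → g ^ 2 * s = s * g ^ 2 → f * s = s * f → False

section words

/-- powers of words -/
theorem word_pow (l : List (ℕ × ℕ)) (n : ℕ) : word (List.replicate n l).flatten = word l ^ n := by
  induction n with
  | zero => rfl
  | succ n ih =>
    rw [List.replicate_succ, List.flatten_cons, word_append, ih, pow_succ']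

theorem word_pow_eq_one {l : List (ℕ × ℕ)} {n : ℕ} (h : same (List.replicate n l).flatten [] = true) :
    word l ^ n = 1 := by
  rw [← word_pow, word_eq h, word_nil]

theorem word_pow_ne_one {l : List (ℕ × ℕ)} {n : ℕ} (v : ℕ) (hl : (List.replicate n l).flatten.all ok = true)
    (h1 : ev (List.replicate n l).flatten v < 256) (h2 : v < 256) (h : ev (List.replicate n l).flatten v ≠ v) :
    word l ^ n ≠ 1 := by
  rw [← word_pow]
  exact Cfsg.Agent.H329.O8.word_ne hl h1 h2 h

/-- the word of order eight -/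
def w8 : List (ℕ × ℕ) := [(1, 4), (16, 2), (16, 32), (64, 8)]
/-- the word of order nine -/
def w9 : List (ℕ × ℕ) := [(1, 2), (4, 128), (128, 16), (32, 1), (16, 8), (64, 128)]
/-- the word of order fifteen -/
def w15 : List (ℕ × ℕ) := [(32, 4), (2, 1), (16, 8), (64, 128)]
/-- the word of order three -/
def w3 : List (ℕ × ℕ) := [(2, 4), (32, 64)]
/-- the word of order four -/
def w4 : List (ℕ × ℕ) := [(16, 2), (8, 16), (64, 32), (4, 128)]


theorem orderOf_eq_of {G : Type*} [Group G] {g : G} {n : ℕ} (hn : 0 < n) (h1 : g ^ n = 1)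
    (h2 : ∀ p, p.Prime → p ∣ n → g ^ (n / p) ≠ 1) : orderOf g = n :=
  orderOf_eq_of_pow_and_pow_div_prime hn h1 h2

theorem orderOf_w8 : orderOf (word w8) = 8 := by
  refine orderOf_eq_of (by norm_num) (word_pow_eq_one (by decide +kernel)) fun p hp hd => ?_
  have : p = 2 := by
    have := (Nat.Prime.dvd_of_dvd_pow hp (show p ∣ 2 ^ 3 by norm_num; exact hd))
    exact (Nat.prime_dvd_prime_iff_eq hp Nat.prime_two).1 this
  subst this
  exact word_pow_ne_one (n := 4) 64 (by decide +kernel) (by decide +kernel) (by norm_num) (by decide +kernel)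

theorem orderOf_w9 : orderOf (word w9) = 9 := by
  refine orderOf_eq_of (by norm_num) (word_pow_eq_one (by decide +kernel)) fun p hp hd => ?_
  have : p = 3 := by
    have := (Nat.Prime.dvd_of_dvd_pow hp (show p ∣ 3 ^ 2 by norm_num; exact hd))
    exact (Nat.prime_dvd_prime_iff_eq hp Nat.prime_three).1 this
  subst this
  exact word_pow_ne_one (n := 3) 1 (by decide +kernel) (by decide +kernel) (by norm_num) (by decide +kernel)

theorem orderOf_w15 : orderOf (word w15) = 15 := by
  refine orderOf_eq_of (by norm_num) (word_pow_eq_one (by decide +kernel)) fun p hp hd => ?_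
  have : p = 3 ∨ p = 5 := by
    rcases (Nat.Prime.dvd_mul hp).1 (show p ∣ 3 * 5 by norm_num; exact hd) with h | h
    · exact Or.inl ((Nat.prime_dvd_prime_iff_eq hp Nat.prime_three).1 h)
    · exact Or.inr ((Nat.prime_dvd_prime_iff_eq hp Nat.prime_five).1 h)
  rcases this with rfl | rfl
  · exact word_pow_ne_one (n := 5) 1 (by decide +kernel) (by decide +kernel) (by norm_num) (by decide +kernel)
  · exact word_pow_ne_one (n := 3) 1 (by decide +kernel) (by decide +kernel) (by norm_num) (by decide +kernel)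

theorem orderOf_w3 : orderOf (word w3) = 3 := by
  refine orderOf_eq_prime (word_pow_eq_one (by decide +kernel)) fun h => ?_
  exact word_pow_ne_one (l := w3) (n := 1) 2 (by decide +kernel) (by decide +kernel) (by norm_num) (by decide +kernel)
    (by rw [pow_one]; exact h)

end words


/-! ### the order-three element which is no cube -/

theorem w3_not_cube (y : Om) (hy : orderOf y = 9) : y ^ 3 ≠ word w3 := by
  intro h
  have h9 : (y : LV) ^ 9 = 1 := by
    rw [← hy, ← Subgroup.orderOf_coe]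
    exact pow_orderOf_eq_one _
  have h3 : (y : LV) ^ 3 ≠ 1 := by
    intro h1
    have h2 := orderOf_dvd_of_pow_eq_one h1
    rw [Subgroup.orderOf_coe, hy] at h2
    exact absurd h2 (by decide)
  have h4 := card_fx_cube h9 h3
  have h5 : (y : LV) ^ 3 = (word w3 : LV) := by rw [← h]; rfl
  rw [h5] at h4
  have h6 : ∀ a : Fin 5, dec (![0, 8, 1, 9, 128] a) ∈ fxS (word w3 : LV) := by
    intro a
    rw [mem_fxS, word_dec (by decide +kernel)]
    congr 1
    revert a
    decide +kernel
  have h7 : Function.Injective fun a : Fin 5 => (⟨dec (![0, 8, 1, 9, 128] a), h6 a⟩ : fxS (word w3 : LV)) := by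
    intro a b hab
    have h8 := (congrArg (fun v : fxS (word w3 : LV) => (v : V)) hab :)
    have h10 : ∀ a : Fin 5, (![0, 8, 1, 9, 128] a : ℕ) < 256 := by decide
    have h11 := dec_inj (h10 a) (h10 b) h8
    have h12 : ∀ a b : Fin 5, (![0, 8, 1, 9, 128] a : ℕ) = ![0, 8, 1, 9, 128] b → a = b := by decide
    exact h12 a b h11
  have h12 := Nat.card_le_card_of_injective _ h7
  rw [h4, Nat.card_eq_fintype_card, Fintype.card_fin] at h12
  omega

/-! ### the order-four element -/

theorem coe_pow_eq {a : Om} {n : ℕ} (h : orderOf a = n) : (a : LV) ^ n = 1 := by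
  rw [← h, ← Subgroup.orderOf_coe]
  exact pow_orderOf_eq_one _

theorem no_five_om {g : Om} (hg : g ^ 4 = 1) (hker : ∀ v, ((g ^ 2 : Om) : LV) v = v → ∃ u, ((g ^ 2 : Om) : LV) u + u = v)
    (hc : ∃ v, B v (((g ^ 2 : Om) : LV) v) ≠ 0) (s f : Om) (hs : orderOf s = 3) (hf : orderOf f = 5)
    (h1 : g ^ 2 * s = s * g ^ 2) (h2 : f * s = s * f) : False := by
  have h4 : g ^ 2 * g ^ 2 = 1 := by rw [← pow_add]; exact hg
  generalize g ^ 2 = z at *
  have h3 : (f : LV) = 1 := by
    refine no_five (z := (z : LV)) (s := (s : LV)) (Om_le z.2) (Om_le s.2) (Om_le f.2)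
      ?_ hker hc (coe_pow_eq hs) ?_ ?_ (coe_pow_eq hf) ?_
    · exact congrArg (fun x : Om => (x : LV)) h4
    · intro h
      have : s = 1 := Subtype.ext h
      rw [this, orderOf_one] at hs
      omega
    · exact congrArg (fun x : Om => (x : LV)) h1
    · exact congrArg (fun x : Om => (x : LV)) h2
  have : f = 1 := Subtype.ext h3
  rw [this, orderOf_one] at hf
  omega

theorem w4_sq : word w4 ^ 2 = word (w4 ++ w4) := by
  rw [word_append, pow_two]

theorem w4_pow : word w4 ^ 4 = 1 := word_pow_eq_one (by decide +kernel)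

theorem w4_ker : ∀ a : Fin 256, ev (w4 ++ w4) a.1 = a.1 →
    (List.range 256).any (fun b => (ev (w4 ++ w4) b ^^^ b) == a.1) = true := by
  decide +kernel

theorem w4_lt : ∀ a : Fin 256, ev (w4 ++ w4) a.1 < 256 := by decide +kernel

theorem w4_all : (w4 ++ w4).all ok = true := by decide +kernel

theorem w4_B : Bn 1 (ev (w4 ++ w4) 1) = true := by decide +kernel

theorem w4_no (s f : Om) (hs : orderOf s = 3) (hf : orderOf f = 5) (h1 : word w4 ^ 2 * s = s * word w4 ^ 2)
    (h2 : f * s = s * f) : False := by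
  refine no_five_om w4_pow ?_ ?_ s f hs hf h1 h2
  · intro v hv
    obtain ⟨a, ha, rfl⟩ := dec_surj v
    rw [w4_sq, word_dec w4_all] at hv
    have h5 : ev (w4 ++ w4) a = a := dec_inj (w4_lt ⟨a, ha⟩) ha hv
    have h6 := w4_ker ⟨a, ha⟩ h5
    obtain ⟨b, -, hb⟩ := List.any_eq_true.1 h6
    refine ⟨dec b, ?_⟩
    rw [w4_sq, word_dec w4_all, ← dec_xor]
    congr 1
    exact beq_iff_eq.1 hb
  · refine ⟨dec 1, ?_⟩
    rw [w4_sq, word_dec w4_all, B_dec, w4_B]
    decide

/-! ### 2-subgroups -/

theorem two_om (K : Subgroup Om) (g : Om) (h2 : IsPGroup 2 K) (h7 : Nat.card K % 7 = 1) (hg : orderOf g = 9)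
    (hn : ∀ k ∈ K, g⁻¹ * k * g ∈ K) (hn' : ∀ k ∈ K, g * k * g⁻¹ ∈ K) : K = ⊥ := by
  have h9 : (g : LV) ^ 9 = 1 := by
    rw [← hg, ← Subgroup.orderOf_coe]
    exact pow_orderOf_eq_one _
  have h3 : (g : LV) ^ 3 ≠ 1 := by
    intro h1
    have h2 := orderOf_dvd_of_pow_eq_one h1
    rw [Subgroup.orderOf_coe, hg] at h2
    exact absurd h2 (by decide)
  have h4 : K.map Om.subtype = ⊥ := by
    refine two_group (K := K.map Om.subtype) ?_ (h2.map _) ?_ (Om_le g.2) h9 h3 ?_ ?_
    · rintro _ ⟨k, -, rfl⟩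
      exact Om_le k.2
    · rw [Nat.card_congr (K.equivMapOfInjective Om.subtype Om.subtype_injective).toEquiv.symm]
      exact h7
    · rintro _ ⟨k, hk, rfl⟩
      exact ⟨g⁻¹ * k * g, hn k hk, rfl⟩
    · rintro _ ⟨k, hk, rfl⟩
      exact ⟨g * k * g⁻¹, hn' k hk, rfl⟩
  exact (Subgroup.map_eq_bot_iff_of_injective K Om.subtype_injective).1 h4

/-! ### centralizers of elements of prime order -/

theorem card_cent_of_selfcent {G : Type*} [Group G] [Finite G] {p : ℕ} (hp : p.Prime) (hp2 : ¬ p ^ 2 ∣ Nat.card G)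
    {R : Subgroup G} (hR : Nat.card R = p) (hc : centralizer (R : Set G) = R) {y : G} (hy : orderOf y = p) :
    Nat.card (centralizer ({y} : Set G)) = p := by
  have := Fact.mk hp
  have key : ∀ H : Subgroup G, Nat.card H = p → ∃ P : Sylow p G, (P : Subgroup G) = H := by
    intro H hH
    obtain ⟨P, hP⟩ := (IsPGroup.of_card (n := 1) (by rw [hH, pow_one])).exists_le_sylow (P := H)
    refine ⟨P, (Subgroup.eq_of_le_of_card_ge hP ?_).symm⟩
    obtain ⟨n, hn⟩ := (IsPGroup.iff_card.1 P.2)
    have h1 : n < 2 := by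
      by_contra h
      exact hp2 ((pow_dvd_pow p (by omega : 2 ≤ n)).trans (hn ▸ Subgroup.card_subgroup_dvd_card _))
    rw [hn, hH]
    calc p ^ n ≤ p ^ 1 := Nat.pow_le_pow_right hp.pos (by omega)
      _ = p := pow_one p
  obtain ⟨P, hP⟩ := key R hR
  obtain ⟨Q, hQ⟩ := key (zpowers y) (by rw [Nat.card_zpowers, hy])
  obtain ⟨g, hg⟩ := MulAction.exists_smul_eq G P Q
  have h1 : zpowers y = R.map (MulAut.conj g).toMonoidHom := by
    rw [← hQ, ← hg, ← hP]
    rfl
  have h2 : centralizer ({y} : Set G) = R.map (MulAut.conj g).toMonoidHom := by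
    have h3 : centralizer ({y} : Set G) = centralizer (zpowers y : Set G) := by
      rw [zpowers_eq_closure, Subgroup.centralizer_closure]
    rw [h3, h1]
    ext x
    rw [Subgroup.mem_centralizer_iff, Subgroup.mem_map]
    constructor
    · intro h
      refine ⟨g⁻¹ * x * g, ?_, ?_⟩
      · rw [← hc, Subgroup.mem_centralizer_iff]
        intro r hr
        have h3 := h (g * r * g⁻¹) ⟨r, hr, rfl⟩
        calc r * (g⁻¹ * x * g) = g⁻¹ * (g * r * g⁻¹ * x) * g := by group
          _ = g⁻¹ * (x * (g * r * g⁻¹)) * g := by rw [h3]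
          _ = g⁻¹ * x * g * r := by group
      · show g * (g⁻¹ * x * g) * g⁻¹ = x
        group
    · rintro ⟨r, hr, rfl⟩ _ ⟨r', hr', rfl⟩
      rw [← hc, Subgroup.mem_centralizer_iff] at hr
      have h3 := hr r' hr'
      show g * r' * g⁻¹ * (g * r * g⁻¹) = g * r * g⁻¹ * (g * r' * g⁻¹)
      calc g * r' * g⁻¹ * (g * r * g⁻¹) = g * (r' * r) * g⁻¹ := by group
        _ = g * (r * r') * g⁻¹ := by rw [h3]
        _ = _ := by group
  rw [h2, Nat.card_congr (R.equivMapOfInjective _ (MulAut.conj g).injective).toEquiv.symm, hR]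


/-! ### transport -/

section

variable {T S : Type*} [Group T] [Group S]

theorem orderOf_e (e : T ≃* S) (g : T) : orderOf (e g) = orderOf g :=
  orderOf_injective e.toMonoidHom e.injective g

theorem card_cent_congr (e : T ≃* S) (y : T) : Nat.card (centralizer ({e y} : Set S)) =
    Nat.card (centralizer ({y} : Set T)) := by
  refine (Nat.card_congr (Equiv.subtypeEquiv e.toEquiv fun a => ?_)).symm
  show a ∈ centralizer ({y} : Set T) ↔ e a ∈ centralizer ({e y} : Set S)
  rw [mem_centralizer_singleton_iff, mem_centralizer_singleton_iff, ← map_mul, ← map_mul, e.injective.eq_iff]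

theorem Fct.congr (e : T ≃* S) (h : Fct S) : Fct T where
  card := by rw [Nat.card_congr e.toEquiv, h.card]
  c7 := fun y hy => by rw [← card_cent_congr e, h.c7 (e y) (by rw [orderOf_e, hy])]
  two := fun K g h2 h7 hg hn hn' => by
    have h4 : K.map e.toMonoidHom = ⊥ := by
      refine h.two (K.map e.toMonoidHom) (e g) (h2.map _) ?_ (by rw [orderOf_e, hg]) ?_ ?_
      · rw [Nat.card_congr (K.equivMapOfInjective e.toMonoidHom e.injective).toEquiv.symm]
        exact h7
      · rintro _ ⟨k, hk, rfl⟩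
        exact ⟨g⁻¹ * k * g, hn k hk, by
          show e (g⁻¹ * k * g) = (e g)⁻¹ * e k * e g
          rw [map_mul, map_mul, map_inv]⟩
      · rintro _ ⟨k, hk, rfl⟩
        exact ⟨g * k * g⁻¹, hn' k hk, by
          show e (g * k * g⁻¹) = e g * e k * (e g)⁻¹
          rw [map_mul, map_mul, map_inv]⟩
    exact (Subgroup.map_eq_bot_iff_of_injective K e.injective).1 h4
  e8 := by
    obtain ⟨y, hy⟩ := h.e8
    exact ⟨e.symm y, by rw [orderOf_e, hy]⟩
  e9 := by
    obtain ⟨y, hy⟩ := h.e9
    exact ⟨e.symm y, by rw [orderOf_e, hy]⟩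
  e15 := by
    obtain ⟨y, hy⟩ := h.e15
    exact ⟨e.symm y, by rw [orderOf_e, hy]⟩
  e3 := by
    obtain ⟨x, hx, hn⟩ := h.e3
    refine ⟨e.symm x, by rw [orderOf_e, hx], fun y hy hyx => hn (e y) (by rw [orderOf_e, hy]) ?_⟩
    rw [← map_pow, hyx, e.apply_symm_apply]
  e4 := by
    obtain ⟨g, hg, hn⟩ := h.e4
    refine ⟨e.symm g, by rw [← map_pow, hg, map_one], fun s f hs hf h1 h2 => hn (e s) (e f) (by rw [orderOf_e, hs])
      (by rw [orderOf_e, hf]) ?_ ?_⟩
    · have := congrArg e h1
      rwa [map_mul, map_mul, map_pow, e.apply_symm_apply] at this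
    · rw [← map_mul, h2, map_mul]

end

/-- **the facts** -/
theorem fct_T {F : Type} [Field F] [Fintype F] (hF : Fintype.card F = 2) :
    Fct (Cfsg.POmega F (Cfsg.quadFormPlus 4 F)) := by
  obtain ⟨e⟩ := exists_equiv hF
  have hcard : Nat.card (Cfsg.POmega F (Cfsg.quadFormPlus 4 F)) = 174182400 := by
    rw [Nat.card_congr e.toEquiv]
    exact Cfsg.Agent.H245.O8Refl.card_Om
  refine Fct.congr e ?_
  have hfin : Finite (Cfsg.POmega F (Cfsg.quadFormPlus 4 F)) :=
    Nat.finite_of_card_ne_zero (by rw [hcard]; norm_num)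
  exact {
    card := Cfsg.Agent.H245.O8Refl.card_Om
    c7 := fun y hy => by
      obtain ⟨R, hR, hc⟩ := Cfsg.Agent.H732.SelfCent.omega8plus_selfcent hF
      rw [← card_cent_congr e.symm]
      exact card_cent_of_selfcent (by norm_num) (by rw [hcard]; norm_num) hR hc (by rw [orderOf_e, hy])
    two := fun K g h2 h7 hg hn hn' => two_om K g h2 h7 hg hn hn'
    e8 := ⟨_, orderOf_w8⟩
    e9 := ⟨_, orderOf_w9⟩
    e15 := ⟨_, orderOf_w15⟩
    e3 := ⟨_, orderOf_w3, w3_not_cube⟩
    e4 := ⟨_, w4_pow, w4_no⟩ }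

end Cfsg.Agent.H320.O8
end
end

-- part: H320/O8/Arith
section
prune_inst 0x40500000000000008001002040440001900020000100000c4000080340000001000080040010080a0000000000000000c00210000000000000000000000028000000000000000000003085180c00000000000000000000000000000004000000000
set_option linter.all false
open scoped Cfsg.Agent.FastGrp

-- part: H320/O8/Sub
section
/-!
# Subgroups of `Ω₈⁺(2)` with elements of orders seven and nine (helper320)
-/

set_option autoImplicit false

namespace Cfsg.Agent.H320.O8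

open Subgroup

/-- facts inherited by subgroups -/
structure Sub (H : Type*) [Group H] : Prop where
  card : Nat.card H ∣ 174182400
  cent : ∀ y x : H, orderOf y = 7 → x * y = y * x → x ∈ zpowers y
  two : ∀ (K : Subgroup H) (g : H), IsPGroup 2 K → Nat.card K % 7 = 1 → orderOf g = 9 →
    g ∈ normalizer (K : Set H) → K = ⊥

theorem Fct.finite {T : Type*} [Group T] (h : Fct T) : Finite T :=
  Nat.finite_of_card_ne_zero (by rw [h.card]; norm_num)

theorem Fct.sub {T : Type*} [Group T] (h : Fct T) {H : Type*} [Group H] (i : H →* T) (hi : Function.Injective i) :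
    Sub H where
  card := by
    rw [← h.card, Nat.card_congr (MonoidHom.ofInjective hi).toEquiv]
    exact Subgroup.card_subgroup_dvd_card _
  cent := fun y x hy hxy => by
    have := h.finite
    have h1 : orderOf (i y) = 7 := by rw [orderOf_injective i hi, hy]
    have h2 : zpowers (i y) = centralizer ({i y} : Set T) := by
      apply Subgroup.eq_of_le_of_card_ge
      · rw [zpowers_le, mem_centralizer_singleton_iff]
      · rw [h.c7 _ h1, Nat.card_zpowers, h1]
    have h3 : i x ∈ zpowers (i y) := by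
      rw [h2, mem_centralizer_singleton_iff, ← map_mul, ← map_mul, hxy]
    obtain ⟨n, hn⟩ := mem_zpowers_iff.1 h3
    exact mem_zpowers_iff.2 ⟨n, hi (by rw [map_zpow, hn])⟩
  two := fun K g h2 h7 hg hn => by
    have h4 : K.map i = ⊥ := by
      refine h.two (K.map i) (i g) (h2.map _) ?_ (by rw [orderOf_injective i hi, hg]) ?_ ?_
      · rw [Nat.card_congr (K.equivMapOfInjective i hi).toEquiv.symm]
        exact h7
      · rintro _ ⟨k, hk, rfl⟩
        refine ⟨g⁻¹ * k * g, ?_, by rw [map_mul, map_mul, map_inv]⟩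
        have := (mem_normalizer_iff.1 (inv_mem hn) k).1 hk
        rwa [inv_inv] at this
      · rintro _ ⟨k, hk, rfl⟩
        exact ⟨g * k * g⁻¹, (mem_normalizer_iff.1 hn k).1 hk, by rw [map_mul, map_mul, map_inv]⟩
    exact (Subgroup.map_eq_bot_iff_of_injective K hi).1 h4

section

variable {H : Type*} [Group H]

/-- conjugation as a permutation of a normalised subgroup -/
def cj {K : Subgroup H} {y : H} (hy : y ∈ normalizer (K : Set H)) : Equiv.Perm K where
  toFun k := ⟨y * k * y⁻¹, (mem_normalizer_iff.1 hy _).1 k.2⟩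
  invFun k := ⟨y⁻¹ * k * y, by
    have := (mem_normalizer_iff.1 (inv_mem hy) k).1 k.2
    rwa [inv_inv] at this⟩
  left_inv k := Subtype.ext (by
    show y⁻¹ * (y * k * y⁻¹) * y = k
    group)
  right_inv k := Subtype.ext (by
    show y * (y⁻¹ * k * y) * y⁻¹ = k
    group)

theorem cj_pow {K : Subgroup H} {y : H} (hy : y ∈ normalizer (K : Set H)) (n : ℕ) (k : K) :
    (((cj hy ^ n : Equiv.Perm K) k : K) : H) = y ^ n * k * (y ^ n)⁻¹ := by
  induction n generalizing k with
  | zero => simp
  | succ n ih =>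
    rw [pow_succ, Equiv.Perm.mul_apply, ih]
    show y ^ n * (y * k * y⁻¹) * (y ^ n)⁻¹ = _
    rw [pow_succ]
    group

theorem Sub.finite (h : Sub H) : Finite H :=
  Nat.finite_of_card_ne_zero fun h0 => by
    have := h.card
    rw [h0] at this
    norm_num at this

/-- **the order of a subgroup normalised by an element of order seven** -/
theorem Sub.mod_seven (h : Sub H) {K : Subgroup H} (h7 : ¬ 7 ∣ Nat.card K) {y : H} (hy : orderOf y = 7)
    (hn : y ∈ normalizer (K : Set H)) : Nat.card K % 7 = 1 := by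
  have := h.finite
  have h1 := fix_mod (p := 7) (by norm_num) (cj hn) (by
    ext k
    rw [cj_pow, ← hy, pow_orderOf_eq_one]
    simp)
  have h2 : Nat.card {a : K // cj hn a = a} = 1 := by
    rw [Nat.card_eq_one_iff_unique]
    refine ⟨⟨?_⟩, ⟨⟨1, Subtype.ext (by show y * 1 * y⁻¹ = 1; group)⟩⟩⟩
    have key : ∀ a : {a : K // cj hn a = a}, ((a : K) : H) = 1 := by
      rintro ⟨a, ha⟩
      have h3 : y * a * y⁻¹ = a := congrArg Subtype.val ha
      have h4 : (a : H) ∈ zpowers y := h.cent y a hy (by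
        calc (a : H) * y = y * a * y⁻¹ * y := by rw [h3]
          _ = y * a := by group)
      have h5 : orderOf (a : H) ∣ 7 := by
        have h6 := Subgroup.orderOf_dvd_natCard (zpowers y) h4
        rwa [Nat.card_zpowers, hy] at h6
      have h6 : orderOf (a : H) ∣ Nat.card K := Subgroup.orderOf_dvd_natCard K a.2
      rcases (Nat.dvd_prime (by norm_num)).1 h5 with h8 | h8
      · exact orderOf_eq_one_iff.1 h8
      · rw [h8] at h6
        exact absurd h6 h7
    intro a b
    exact Subtype.ext (Subtype.ext (by rw [key a, key b]))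
  rw [h2] at h1
  exact h1

/-- elements of order seven normalising a Sylow subgroup -/
theorem exists_seven [Finite H] (h7 : 7 ∣ Nat.card H) {N : Subgroup H} [N.Normal] (hN : ¬ 7 ∣ Nat.card N) {p : ℕ}
    [Fact p.Prime] (P : Sylow p N) : ∃ y : H, orderOf y = 7 ∧
      y ∈ normalizer ((P.map N.subtype : Subgroup H) : Set H) := by
  have h1 := Sylow.normalizer_sup_eq_top P
  have h2 : 7 ∣ Nat.card (H ⧸ N) := by
    have := Subgroup.card_eq_card_quotient_mul_card_subgroup N
    rw [this] at h7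
    exact ((Nat.Prime.dvd_mul (by norm_num)).1 h7).resolve_right hN
  have h3 : Function.Surjective ((QuotientGroup.mk' N).comp
      (normalizer ((P.map N.subtype : Subgroup H) : Set H)).subtype) := by
    intro q
    obtain ⟨x, rfl⟩ := QuotientGroup.mk'_surjective N q
    have hx : x ∈ normalizer ((P.map N.subtype : Subgroup H) : Set H) ⊔ N := by rw [h1]; trivial
    obtain ⟨a, ha, b, hb, rfl⟩ := Subgroup.mem_sup_of_normal_right.1 hx
    refine ⟨⟨a, ha⟩, ?_⟩
    show QuotientGroup.mk' N a = QuotientGroup.mk' N (a * b)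
    have hb1 : QuotientGroup.mk' N b = 1 := (QuotientGroup.eq_one_iff b).2 hb
    rw [map_mul, hb1, mul_one]
  have h4 : 7 ∣ Nat.card (normalizer ((P.map N.subtype : Subgroup H) : Set H)) :=
    h2.trans (Subgroup.card_dvd_of_surjective _ h3)
  obtain ⟨y, hy⟩ := @exists_prime_orderOf_dvd_card' _ _ _ 7 ⟨by norm_num⟩ h4
  exact ⟨y, by rw [Subgroup.orderOf_coe]; exact hy, y.2⟩

/-- **normal subgroups of order prime to seven are trivial** -/
theorem Sub.eq_bot (h : Sub H) (h7 : 7 ∣ Nat.card H) (h9 : ∃ g : H, orderOf g = 9) (N : Subgroup H) [N.Normal]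
    (hN : ¬ 7 ∣ Nat.card N) : N = ⊥ := by
  have := h.finite
  have key : ∀ p, p.Prime → ∀ k, p ^ k ∣ Nat.card N → (∀ j, 1 ≤ j → j ≤ k → p ^ j % 7 ≠ 1) →
      ¬ p ^ (k + 1) ∣ Nat.card N → k = 0 := by
    intro p hp k hk hj hk1
    have := Fact.mk hp
    obtain ⟨P⟩ : Nonempty (Sylow p N) := inferInstance
    obtain ⟨y, hy, hy2⟩ := exists_seven h7 hN P
    have e1 : Nat.card (P.map N.subtype : Subgroup H) = Nat.card P :=
      Nat.card_congr ((P : Subgroup N).equivMapOfInjective N.subtype N.subtype_injective).toEquiv.symm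
    have e2 : Nat.card P = p ^ (Nat.card N).factorization p := P.card_eq_multiplicity
    have e3 : (Nat.card N).factorization p = k := by
      have h0 : Nat.card N ≠ 0 := Nat.card_pos.ne'
      have a1 := (hp.pow_dvd_iff_le_factorization h0).1 hk
      have a2 : ¬ k + 1 ≤ (Nat.card N).factorization p := fun h' => hk1 ((hp.pow_dvd_iff_le_factorization h0).2 h')
      omega
    rw [e3] at e2
    have h3 : ¬ 7 ∣ Nat.card (P.map N.subtype : Subgroup H) := by
      rw [e1, e2]
      intro h4
      have h5 : 7 ∣ p ^ k := h4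
      have h6 := h5.trans hk
      exact hN h6
    have h4 := h.mod_seven h3 hy hy2
    rw [e1, e2] at h4
    by_contra h0
    exact hj k (by omega) le_rfl h4
  have hd : Nat.card N ∣ 174182400 := (Subgroup.card_subgroup_dvd_card N).trans h.card
  have hpr : (174182400 : ℕ) = 2 ^ 12 * (3 ^ 5 * (5 ^ 2 * 7)) := by norm_num
  -- the exponents
  obtain ⟨a, c, ha, hc, hac⟩ := (Nat.dvd_mul).1 (hpr ▸ hd)
  obtain ⟨b, d, hb, hd2, hbd⟩ := (Nat.dvd_mul).1 hc
  obtain ⟨e, f, he, hf, hef⟩ := (Nat.dvd_mul).1 hd2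
  obtain ⟨i, hi, rfl⟩ := (Nat.dvd_prime_pow Nat.prime_two).1 ha
  obtain ⟨j, hj, rfl⟩ := (Nat.dvd_prime_pow Nat.prime_three).1 hb
  obtain ⟨l, hl, rfl⟩ := (Nat.dvd_prime_pow Nat.prime_five).1 he
  have hf1 : f = 1 := by
    rcases (Nat.dvd_prime (by norm_num)).1 hf with h1 | h1
    · exact h1
    · exfalso
      apply hN
      rw [← hac, ← hbd, ← hef, h1]
      exact Dvd.dvd.mul_left (Dvd.dvd.mul_left (Dvd.intro_left _ rfl) _) _
  subst hf1
  have hcard : Nat.card N = 2 ^ i * (3 ^ j * (5 ^ l * 1)) := by rw [hef, hbd, hac]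
  have hj0 : j = 0 := by
    refine key 3 (by norm_num) j ?_ ?_ ?_
    · rw [hcard]
      exact Dvd.dvd.mul_left (Dvd.intro _ rfl) _
    · intro t ht ht2
      have h5 : t ≤ 5 := ht2.trans hj
      clear ht2
      interval_cases t <;> norm_num
    · rw [hcard]
      intro hdv
      have c1 : Nat.Coprime (3 ^ (j + 1)) (2 ^ i) := Nat.Coprime.pow _ _ (by norm_num)
      have c2 : Nat.Coprime (3 ^ (j + 1)) (5 ^ l * 1) := by
        rw [mul_one]
        exact Nat.Coprime.pow _ _ (by norm_num)
      have h1 := c2.dvd_of_dvd_mul_right (c1.dvd_of_dvd_mul_left hdv)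
      have h2 := Nat.le_of_dvd (by positivity) h1
      exact absurd h2 (not_le.2 (Nat.pow_lt_pow_right (by norm_num) (by omega)))
  have hl0 : l = 0 := by
    refine key 5 (by norm_num) l ?_ ?_ ?_
    · rw [hcard]
      exact Dvd.dvd.mul_left (Dvd.dvd.mul_left (Dvd.intro _ rfl) _) _
    · intro t ht ht2
      have h5 : t ≤ 2 := ht2.trans hl
      clear ht2
      interval_cases t <;> norm_num
    · rw [hcard]
      intro hdv
      have c1 : Nat.Coprime (5 ^ (l + 1)) (2 ^ i) := Nat.Coprime.pow _ _ (by norm_num)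
      have c2 : Nat.Coprime (5 ^ (l + 1)) (3 ^ j) := Nat.Coprime.pow _ _ (by norm_num)
      have h1 := c2.dvd_of_dvd_mul_left (c1.dvd_of_dvd_mul_left hdv)
      rw [mul_one] at h1
      have h2 := Nat.le_of_dvd (by positivity) h1
      exact absurd h2 (not_le.2 (Nat.pow_lt_pow_right (by norm_num) (by omega)))
  subst hj0 hl0
  have hcard2 : Nat.card N = 2 ^ i := by rw [hcard]; ring
  obtain ⟨y, hy⟩ := @exists_prime_orderOf_dvd_card' H _ _ 7 ⟨by norm_num⟩ h7
  obtain ⟨g, hg⟩ := h9
  have hm := h.mod_seven hN hy (by rw [normalizer_eq_top]; trivial)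
  exact h.two N g (IsPGroup.of_card hcard2) hm hg (by rw [normalizer_eq_top]; trivial)

end

end Cfsg.Agent.H320.O8
end

-- part: H320/O8/Arith
section
/-!
# Subgroups of `Ω₈⁺(2)` with elements of orders seven and nine: the socle (helper320)
-/

set_option autoImplicit false

namespace Cfsg.Agent.H320.O8

open Subgroup

section

variable {M : Type*} [Group M]

theorem Sub.not_sq (h : Sub M) : ¬ 49 ∣ Nat.card M := fun h1 => by
  have := h1.trans h.card
  norm_num at this

/-- the normaliser of a subgroup of order seven -/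
theorem Sub.card_normalizer (h : Sub M) {P : Subgroup M} (hP : Nat.card P = 7) :
    Nat.card (normalizer (P : Set M)) ∣ 42 := by
  have := h.finite
  have : Fact (Nat.Prime 7) := ⟨by norm_num⟩
  have hcy : IsCyclic P := isCyclic_of_prime_card hP
  obtain ⟨y, hy⟩ := hcy.exists_generator
  have hy7 : orderOf (y : M) = 7 := by
    rw [Subgroup.orderOf_coe, ← hP, orderOf_eq_card_of_forall_mem_zpowers hy]
  have hc : centralizer (P : Set M) = P := by
    apply le_antisymm
    · intro x hx
      have h1 : x ∈ zpowers (y : M) := h.cent y x hy7 ((mem_centralizer_iff.1 hx y y.2).symm)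
      exact (zpowers_le.2 y.2) h1
    · intro x hx
      rw [mem_centralizer_iff]
      intro z hz
      have : IsMulCommutative P := ⟨⟨hcy.commGroup.mul_comm⟩⟩
      exact congrArg Subtype.val (mul_comm' (⟨z, hz⟩ : P) ⟨x, hx⟩)
  have hker := normalizerMonoidHom_ker (H := P)
  have h1 : Nat.card (normalizerMonoidHom P).ker = 7 := by
    rw [hker, hc, Nat.card_congr (subgroupOfEquivOfLe le_normalizer).toEquiv, hP]
  have h2 : Nat.card (normalizer (P : Set M)) = Nat.card (normalizerMonoidHom P).ker * Nat.card (normalizerMonoidHom P).range := by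
    rw [mul_comm, ← Nat.card_congr (QuotientGroup.quotientKerEquivRange (normalizerMonoidHom P)).toEquiv]
    exact Subgroup.card_eq_card_quotient_mul_card_subgroup _
  have h3 : Nat.card (normalizerMonoidHom P).range ∣ 6 := by
    have h4 : Nat.card (MulAut P) = 6 := by
      rw [IsCyclic.card_mulAut, hP]
      decide
    rw [← h4]
    exact Subgroup.card_subgroup_dvd_card _
  rw [h2, h1]
  exact mul_dvd_mul_left 7 h3

/-- **the numbers** -/
theorem Sub.numbers (h : Sub M) {S : Subgroup M} [S.Normal] (hS : IsSimpleGroup S) (hna : ¬ ∀ a b : S, a * b = b * a)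
    (h7 : 7 ∣ Nat.card S) : ∃ b e n : ℕ, (b = 14 ∨ b = 21 ∨ b = 42) ∧ Nat.card M = e * Nat.card S ∧ b * e ∣ 42 ∧
      Nat.card S = b * n ∧ n % 7 = 1 := by
  have := h.finite
  have : Fact (Nat.Prime 7) := ⟨by norm_num⟩
  obtain ⟨P⟩ : Nonempty (Sylow 7 S) := inferInstance
  have hfac : (Nat.card S).factorization 7 = 1 := by
    have h0 : Nat.card S ≠ 0 := Nat.card_pos.ne'
    have a1 : 1 ≤ (Nat.card S).factorization 7 :=
      (Nat.Prime.pow_dvd_iff_le_factorization (by norm_num) h0).1 (by rwa [pow_one])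
    have a2 : ¬ 2 ≤ (Nat.card S).factorization 7 := fun h' =>
      h.not_sq (((Nat.Prime.pow_dvd_iff_le_factorization (by norm_num) h0).2 h').trans
        (Subgroup.card_subgroup_dvd_card S))
    omega
  have hP : Nat.card P = 7 := by rw [P.card_eq_multiplicity, hfac, pow_one]
  set P' : Subgroup M := (P : Subgroup S).map S.subtype with hP'
  have hcP' : Nat.card P' = 7 := by
    rw [hP', Nat.card_congr ((P : Subgroup S).equivMapOfInjective S.subtype S.subtype_injective).toEquiv.symm]
    exact hP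
  have hN := h.card_normalizer hcP'
  have hP'S : P' ≤ S := by
    rintro _ ⟨x, -, rfl⟩
    exact x.2
  have hsub : P'.subgroupOf S = P := by
    rw [hP']
    exact Subgroup.comap_map_eq_self_of_injective S.subtype_injective _
  have hNS : (normalizer (P' : Set M)).subgroupOf S = normalizer ((P : Subgroup S) : Set S) := by
    rw [subgroupOf_normalizer_eq hP'S, hsub]
  -- the Sylow count in `S`
  have hn := card_sylow_modEq_one 7 S
  have hi : Nat.card (Sylow 7 S) = (normalizer ((P : Subgroup S) : Set S)).index := P.card_eq_index_normalizer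
  have hbn := (normalizer ((P : Subgroup S) : Set S)).card_mul_index
  -- Frattini
  have hF := Sylow.normalizer_sup_eq_top P
  rw [← hP'] at hF
  have hsurj : Function.Surjective ((QuotientGroup.mk' S).comp (normalizer (P' : Set M)).subtype) := by
    intro q
    obtain ⟨x, rfl⟩ := QuotientGroup.mk'_surjective S q
    have hx : x ∈ normalizer (P' : Set M) ⊔ S := by rw [hF]; trivial
    obtain ⟨a, ha, b, hb, rfl⟩ := Subgroup.mem_sup_of_normal_right.1 hx
    refine ⟨⟨a, ha⟩, ?_⟩
    show QuotientGroup.mk' S a = QuotientGroup.mk' S (a * b)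
    have hb1 : QuotientGroup.mk' S b = 1 := (QuotientGroup.eq_one_iff b).2 hb
    rw [map_mul, hb1, mul_one]
  have hker : ((QuotientGroup.mk' S).comp (normalizer (P' : Set M)).subtype).ker =
      S.subgroupOf (normalizer (P' : Set M)) := by
    ext x
    rw [MonoidHom.mem_ker, mem_subgroupOf]
    show QuotientGroup.mk' S (x : M) = 1 ↔ _
    exact QuotientGroup.eq_one_iff _
  have hcN : Nat.card (normalizer (P' : Set M)) = Nat.card (M ⧸ S) *
      Nat.card (normalizer ((P : Subgroup S) : Set S)) := by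
    rw [Subgroup.card_eq_card_quotient_mul_card_subgroup
      ((QuotientGroup.mk' S).comp (normalizer (P' : Set M)).subtype).ker,
      Nat.card_congr (QuotientGroup.quotientKerEquivOfSurjective _ hsurj).toEquiv, hker, ← hNS]
    congr 1
    refine Nat.card_congr ⟨fun x => ⟨⟨x.1.1, x.2⟩, x.1.2⟩, fun x => ⟨⟨x.1.1, x.2⟩, x.1.2⟩, fun x => rfl,
      fun x => rfl⟩
  have hcM : Nat.card M = Nat.card (M ⧸ S) * Nat.card S := Subgroup.card_eq_card_quotient_mul_card_subgroup S
  -- Burnside
  have hb7 : Nat.card (normalizer ((P : Subgroup S) : Set S)) ≠ 7 := by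
    intro hb
    have h1 : normalizer ((P : Subgroup S) : Set S) = P :=
      (Subgroup.eq_of_le_of_card_ge le_normalizer (by rw [hb, hP])).symm
    have hcy : IsCyclic P := isCyclic_of_prime_card hP
    have h2 : normalizer ((P : Subgroup S) : Set S) ≤ centralizer ((P : Subgroup S) : Set S) := by
      rw [h1]
      intro x hx
      rw [mem_centralizer_iff]
      intro z hz
      have : IsMulCommutative P := ⟨⟨hcy.commGroup.mul_comm⟩⟩
      exact congrArg Subtype.val (mul_comm' (⟨z, hz⟩ : P) ⟨x, hx⟩)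
    have h3 := MonoidHom.ker_transferSylow_isComplement' P h2
    have h4 := h3.card_mul_card
    have h6 : (MonoidHom.transferSylow P h2).ker = ⊥ ∨ (MonoidHom.transferSylow P h2).ker = ⊤ :=
      hS.eq_bot_or_eq_top_of_normal _ inferInstance
    have h5 : Nat.card ((P : Subgroup S)) = 7 := hP
    rw [h5] at h4
    rcases h6 with h6 | h6
    · rw [h6, Subgroup.card_bot, one_mul] at h4
      have hcS : IsCyclic S := isCyclic_of_prime_card h4.symm
      exact hna hcS.commGroup.mul_comm
    · rw [h6, Subgroup.card_top] at h4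
      have : 0 < Nat.card S := Nat.card_pos
      omega
  have hb42 : Nat.card (normalizer ((P : Subgroup S) : Set S)) ∣ 42 :=
    (Dvd.intro_left _ hcN.symm).trans hN
  have hb71 : 7 ∣ Nat.card (normalizer ((P : Subgroup S) : Set S)) :=
    hP.symm.dvd.trans (Subgroup.card_dvd_of_le le_normalizer)
  refine ⟨Nat.card (normalizer ((P : Subgroup S) : Set S)), Nat.card (M ⧸ S), (normalizer ((P : Subgroup S) : Set S)).index,
    ?_, hcM, ?_, hbn.symm, ?_⟩
  · generalize Nat.card (normalizer ((P : Subgroup S) : Set S)) = b at hb42 hb71 hb7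
    obtain ⟨c, rfl⟩ := hb71
    have h8 : c ∣ 6 := Nat.dvd_of_mul_dvd_mul_left (by norm_num : 0 < 7) (by norm_num; exact hb42)
    have h9 : c ≤ 6 := Nat.le_of_dvd (by norm_num) h8
    interval_cases c <;> omega
  · rw [mul_comm, ← hcN]
    exact hN
  · rw [← hi]
    exact hn

/-- **the socle** -/
theorem Sub.exists_simple (h : Sub M) (h7 : 7 ∣ Nat.card M) (h9 : ∃ g : M, orderOf g = 9) :
    ∃ S : Subgroup M, S.Normal ∧ IsSimpleGroup S ∧ (¬ ∀ a b : S, a * b = b * a) ∧ 7 ∣ Nat.card S := by
  have := h.finite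
  have hnt : Nontrivial M := by
    by_contra hn
    rw [not_nontrivial_iff_subsingleton] at hn
    rw [Nat.card_of_subsingleton (1 : M)] at h7
    omega
  obtain ⟨S, hSn, hS0, hmin⟩ := Cfsg.Agent.Lib.SubnormalJoin.exists_minimal_normal M
  have h71 : 7 ∣ Nat.card S := by
    by_contra hc
    exact hS0 (h.eq_bot h7 h9 S hc)
  obtain ⟨T, m, hTS, hT, hm, ⟨e⟩⟩ := Cfsg.Agent.Lib.MinNormal.exists_mulEquiv_pi S hS0 hmin
  have hc : Nat.card S = Nat.card T ^ m := by
    rw [Nat.card_congr e.toEquiv, Nat.card_fun, Nat.card_eq_fintype_card (α := Fin m), Fintype.card_fin]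
  have h72 : 7 ∣ Nat.card T := (Nat.Prime.dvd_of_dvd_pow (by norm_num)) (hc ▸ h71)
  have hm1 : m = 1 := by
    by_contra hm1
    have h1 : Nat.card T ^ 2 ∣ Nat.card S := by
      rw [hc]
      exact pow_dvd_pow _ (by omega)
    have h2 : 7 ^ 2 ∣ Nat.card M := ((pow_dvd_pow_of_dvd h72 2).trans h1).trans (Subgroup.card_subgroup_dvd_card S)
    exact h.not_sq h2
  subst hm1
  rw [pow_one] at hc
  have hTS' : T = S := Subgroup.eq_of_le_of_card_ge hTS hc.le
  have hSs : IsSimpleGroup S := hTS' ▸ hT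
  refine ⟨S, hSn, hSs, ?_, h71⟩
  intro hcomm
  -- the socle has order seven
  have : Fact (Nat.Prime 7) := ⟨by norm_num⟩
  have hp : (Nat.card S).Prime := by
    let _ : CommGroup S := { (inferInstance : Group S) with mul_comm := hcomm }
    exact IsSimpleGroup.prime_card
  have hS7 : Nat.card S = 7 := ((Nat.prime_dvd_prime_iff_eq (by norm_num) hp).1 h71).symm
  have h1 := h.card_normalizer hS7
  rw [normalizer_eq_top, Subgroup.card_top] at h1
  obtain ⟨g, hg⟩ := h9
  have h2 := orderOf_dvd_natCard g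
  rw [hg] at h2
  have h3 := h2.trans h1
  norm_num at h3

end

end Cfsg.Agent.H320.O8
end

private theorem dce_b7a56f8a1924 : _root_.True := by
  try have : _root_.True := by simp only [_root_.Cfsg.Agent.H320.O8.cj.congr_simp]
  exact _root_.True.intro
end
end
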